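import Groth.Agent.Flat2D.RelDimClosure2
import Groth.Agent.VarietyA.LocDim
import Groth.Prelude.Def_EGA43

/-!
# Equidimensionality at a point through maximal points and transcendence degrees

`rtd f z` is the transcendence degree of `κ(z)` over `κ(f z)`. For `f` locally of finite type,
`EGA43.IsEquidimAt f x` is expressed through maximal points (generic points of irreducible
components) of `X`, `Y` and of the fibres, and `rtd`.
-/

set_option autoImplicit false
universe u
open CategoryTheory AlgebraicGeometry TopologicalSpace Topology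
open Groth.Agent.CycB.RelDim Groth.Agent.Flat2D.RelDimClosure

namespace Groth.Agent.Ega4fib.H174.Equidim

section Top

variable {T : Type*} [TopologicalSpace T]

/-- Irreducible components of a sober space are the closures of its maximal points. -/
theorem mem_irreducibleComponents_iff [QuasiSober T] [T0Space T] {Z : Set T} :
    Z ∈ irreducibleComponents T ↔ ∃ ζ : T, (∀ z : T, z ⤳ ζ → z = ζ) ∧ closure {ζ} = Z := by
  constructor
  · intro hZ
    have hg := hZ.1.isGenericPoint_genericPoint (isClosed_of_mem_irreducibleComponents _ hZ)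
    refine ⟨hZ.1.genericPoint, fun z hz => ?_, hg.def⟩
    have h1 : closure {z} ⊆ Z := by
      refine hZ.2 isIrreducible_singleton.closure ?_
      rw [← hg.def]
      exact hz.closure_subset
    exact (hz.antisymm (hg.specializes (h1 (subset_closure rfl)))).eq
  · rintro ⟨ζ, hζ, rfl⟩
    refine ⟨isIrreducible_singleton.closure, fun A hA hle => ?_⟩
    have hAc := hA.closure
    have hg := hAc.isGenericPoint_genericPoint isClosed_closure
    have h1 : hAc.genericPoint ⤳ ζ :=
      hg.specializes (subset_closure (hle (subset_closure rfl)))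
    rw [← hζ _ h1, hg.def]
    exact subset_closure

/-- Every point of a sober space is a specialization of a maximal point. -/
theorem exists_maximal_specializes [QuasiSober T] [T0Space T] (t : T) :
    ∃ ζ : T, (∀ z : T, z ⤳ ζ → z = ζ) ∧ ζ ⤳ t := by
  obtain ⟨ζ, hζ, h⟩ :=
    mem_irreducibleComponents_iff.mp (irreducibleComponent_mem_irreducibleComponents t)
  refine ⟨ζ, hζ, ?_⟩
  rw [specializes_iff_mem_closure, h]
  exact mem_irreducibleComponent

theorem maximal_subtype_iff {U : Set T} (hU : IsOpen U) (z : U) :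
    (∀ z' : U, z' ⤳ z → z' = z) ↔ ∀ z' : T, z' ⤳ z.1 → z' = z.1 := by
  constructor
  · intro h z' hz'
    exact congrArg Subtype.val (h ⟨z', hz'.mem_open hU z.2⟩ ((subtype_specializes_iff _ _).mpr hz'))
  · intro h z' hz'
    exact Subtype.ext (h z'.1 ((subtype_specializes_iff _ _).mp hz'))

end Top

variable {X Y : Scheme.{u}}

theorem fiberι_mem_preimage (f : X ⟶ Y) (y : Y) (z : f.fiber y) : f (f.fiberι y z) = y := by
  have h : f.fiberι y z ∈ Set.range (f.fiberι y) := ⟨z, rfl⟩
  rw [f.range_fiberι] at h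
  exact h

theorem exists_fiberι_eq (f : X ⟶ Y) {y : Y} {x : X} (h : f x = y) :
    ∃ z : f.fiber y, f.fiberι y z = x := by
  have h : x ∈ Set.range (f.fiberι y) := by rw [f.range_fiberι]; exact h
  exact h

theorem fiberι_specializes_iff (f : X ⟶ Y) (y : Y) (z z' : f.fiber y) :
    f.fiberι y z ⤳ f.fiberι y z' ↔ z ⤳ z' :=
  (f.fiberι y).isEmbedding.isInducing.specializes_iff

theorem maximal_fiber_iff (f : X ⟶ Y) (y : Y) (z : f.fiber y) :
    (∀ z' : f.fiber y, z' ⤳ z → z' = z) ↔
      ∀ x' : X, x' ⤳ f.fiberι y z → f x' = y → x' = f.fiberι y z := by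
  constructor
  · intro h x' hx' hy
    obtain ⟨z', rfl⟩ := exists_fiberι_eq f hy
    rw [h z' ((fiberι_specializes_iff f y _ _).mp hx')]
  · intro h z' hz'
    exact (f.fiberι y).isEmbedding.injective
      (h _ ((fiberι_specializes_iff f y _ _).mpr hz') (fiberι_mem_preimage f y z'))

/-- Every point is the specialization of a maximal point of its fibre. -/
theorem exists_maximal_fiber (f : X ⟶ Y) (x : X) :
    ∃ z : X, z ⤳ x ∧ f z = f x ∧ ∀ z' : X, z' ⤳ z → f z' = f z → z' = z := by
  obtain ⟨z, hz, hzx⟩ := exists_maximal_specializes (f.asFiber x)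
  have h1 := (fiberι_specializes_iff f _ _ _).mpr hzx
  rw [Scheme.Hom.fiberι_asFiber] at h1
  have h2 := fiberι_mem_preimage f _ z
  refine ⟨f.fiberι _ z, h1, h2, fun z' h3 h4 => ?_⟩
  exact (maximal_fiber_iff f _ z).mp hz z' h3 (h4.trans h2)

/-- Irreducible components of the fibre `f⁻¹(y)` and their dimensions: the components are the
closures of the maximal points and have dimension `rtd`. -/
theorem forall_component_fiber_iff (f : X ⟶ Y) [LocallyOfFiniteType f] (y : Y) (e : ℕ) :
    (∀ Z ∈ irreducibleComponents (↥(f.fiber y) : Type u), topologicalKrullDim (↥Z : Type u) = e) ↔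
      ∀ z : X, f z = y → (∀ z' : X, z' ⤳ z → f z' = y → z' = z) → rtd f z = e := by
  have key : ∀ z : f.fiber y, topologicalKrullDim (closure {z} : Set (f.fiber y)) = e ↔
      rtd f (f.fiberι y z) = e := by
    intro z
    obtain ⟨n, hn, hn'⟩ := exists_dim_closure_inter_fiber f y z ⊤ trivial
    have h1 : (closure {z} ∩ ((⊤ : (f.fiber y).Opens) : Set (f.fiber y))) = closure {z} := by
      simp
    rw [h1] at hn'
    rw [hn, hn']
    norm_cast
  constructor
  · intro h z hz hmax
    obtain ⟨z, rfl⟩ := exists_fiberι_eq f hz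
    rw [← key]
    exact h _ (mem_irreducibleComponents_iff.mpr ⟨z, (maximal_fiber_iff f y z).mpr hmax, rfl⟩)
  · intro h Z hZ
    obtain ⟨z, hz, rfl⟩ := mem_irreducibleComponents_iff.mp hZ
    rw [key]
    exact h _ (fiberι_mem_preimage f y z) ((maximal_fiber_iff f y z).mp hz)

theorem closure_image_closure_singleton (f : X ⟶ Y) (ζ : X) :
    closure (f '' closure {ζ}) = closure {f ζ} := by
  rw [closure_image_closure f.continuous, Set.image_singleton]

/-- Equidimensionality at a point through maximal points. -/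
theorem isEquidimAt_iff_points (f : X ⟶ Y) [LocallyOfFiniteType f] (x : X) :
    EGA43.IsEquidimAt f x ↔ ∃ (e : ℕ) (U : X.Opens), x ∈ U ∧
      (∀ z ∈ U, (∀ z' : X, z' ⤳ z → z' = z) → (∀ y : Y, y ⤳ f z → y = f z) ∧ f z ⤳ f x) ∧
      (∀ z ∈ U, (∀ z' : X, z' ⤳ z → f z' = f z → z' = z) → rtd f z = e) := by
  unfold EGA43.IsEquidimAt
  refine exists_congr fun e => exists_congr fun U => and_congr_right fun hxU => and_congr ?_ ?_
  · have hQ : QuasiSober ↥U := U.isOpen.isOpenEmbedding_subtypeVal.quasiSober
    constructor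
    · intro h z hzU hz
      obtain ⟨W, hW, hxW, hZW⟩ := h (closure {(⟨z, hzU⟩ : U)}) (mem_irreducibleComponents_iff.mpr
        ⟨⟨z, hzU⟩, (maximal_subtype_iff U.2 ⟨z, hzU⟩).mpr hz, rfl⟩)
      obtain ⟨w, hw, rfl⟩ := mem_irreducibleComponents_iff.mp hW
      have h1 := closure_image_closure_singleton (U.ι ≫ f) ⟨z, hzU⟩
      have h2 : (U.ι ≫ f) ⟨z, hzU⟩ = f z := rfl
      have h3 : closure {f z} = closure {w} := by
        rw [← h2, ← h1]
        exact hZW
      have h4 : f z = w := by
        have : Inseparable (f z) w := by rwa [inseparable_iff_closure_eq]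
        exact this.eq
      rw [h4]
      exact ⟨hw, specializes_iff_mem_closure.mpr hxW⟩
    · intro h Z hZ
      obtain ⟨z, hz, rfl⟩ := mem_irreducibleComponents_iff.mp hZ
      obtain ⟨h1, h2⟩ := h z.1 z.2 ((maximal_subtype_iff U.2 z).mp hz)
      refine ⟨closure {f z.1}, mem_irreducibleComponents_iff.mpr ⟨_, h1, rfl⟩,
        specializes_iff_mem_closure.mp h2, ?_⟩
      exact closure_image_closure_singleton (U.ι ≫ f) z
  · constructor
    · intro h z hzU hz
      have h1 := (forall_component_fiber_iff (U.ι ≫ f) _ e).mp (h ⟨z, hzU⟩) ⟨z, hzU⟩ rfl ?_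
      · rwa [VarietyA.LocDim.rtd_ι_comp] at h1
      · intro z' h2 h3
        exact Subtype.ext (hz z'.1 ((subtype_specializes_iff _ _).mp h2) h3)
    · intro h x'
      refine (forall_component_fiber_iff (U.ι ≫ f) _ e).mpr fun z hz hmax => ?_
      refine (VarietyA.LocDim.rtd_ι_comp U f z).trans ?_
      refine h z.1 z.2 fun z' h1 h2 => ?_
      have hz'U : z' ∈ U := h1.mem_open U.2 z.2
      exact congrArg Subtype.val (hmax ⟨z', hz'U⟩ ((subtype_specializes_iff _ _).mpr h1)
        (Eq.trans h2 hz))

end Groth.Agent.Ega4fib.H174.Equidim
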