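import Groth.Agent.Ega4fib.H174.EquidimCrit
import Groth.Agent.Ega43.EquidimSch
import Groth.Agent.Flat2D.CMCharts
import Groth.Agent.FlatB.QfAffSpace

/-!
# Equidimensionality and quasi-finite morphisms to affine space
-/

set_option autoImplicit false
universe u
open CategoryTheory AlgebraicGeometry TopologicalSpace Topology
open Groth.Agent.CycB.RelDim Groth.Agent.Flat2D.RelDimClosure

namespace Groth.Agent.Ega4fib.H174.EquidimAff

open Equidim EquidimCrit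

variable {X Y : Scheme.{u}}

theorem rtd_eq_zero_of_locallyQuasiFinite (g : X ⟶ Y) [LocallyOfFiniteType g]
    [LocallyQuasiFinite g] (z : X) : rtd g z = 0 := by
  obtain ⟨n, hn, hn'⟩ := exists_dim_fib g z
  have h1 : DiscreteTopology (Fib g z (g z)) :=
    ((g.isDiscrete_preimage_singleton (g z)).mono Set.inter_subset_right).to_subtype
  have h2 := topologicalKrullDim_zero_of_discreteTopology (Fib g z (g z))
  rw [hn'] at h2
  have h3 : n = 0 := by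
    have : (n : WithBot ℕ∞) ≤ (0 : ℕ) := by exact_mod_cast h2
    exact Nat.le_zero.mp (by exact_mod_cast this)
  rw [hn, h3, Nat.cast_zero]

/-- Points of affine space maximal in their fibre have `rtd = d`. -/
theorem rtd_affineSpace_of_maximal (d : ℕ) (t : 𝔸(ULift.{u} (Fin d); Y))
    (ht : ∀ t' : 𝔸(ULift.{u} (Fin d); Y), t' ⤳ t →
      (𝔸(ULift.{u} (Fin d); Y) ↘ Y) t' = (𝔸(ULift.{u} (Fin d); Y) ↘ Y) t → t' = t) :
    rtd (𝔸(ULift.{u} (Fin d); Y) ↘ Y) t = d := by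
  have h1 := (forall_component_fiber_iff (𝔸(ULift.{u} (Fin d); Y) ↘ Y)
    ((𝔸(ULift.{u} (Fin d); Y) ↘ Y) t) d).mp fun Z hZ =>
      Ega43.EquidimSch.topologicalKrullDim_fiber (𝔸(ULift.{u} (Fin d); Y) ↘ Y) d (𝟙 _)
        (Category.id_comp _) _ hZ
  exact h1 t rfl ht

theorem rtd_affineSpace_le (d : ℕ) (t : 𝔸(ULift.{u} (Fin d); Y)) :
    rtd (𝔸(ULift.{u} (Fin d); Y) ↘ Y) t ≤ d := by
  obtain ⟨z, h1, h2, h3⟩ := exists_maximal_fiber (𝔸(ULift.{u} (Fin d); Y) ↘ Y) t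
  rw [← rtd_affineSpace_of_maximal d z h3]
  exact VarietyA.LocDim.rtd_le_of_specializes _ h1 h2

/-- A point of affine space with `rtd = d` over a maximal point is maximal. -/
theorem maximal_of_rtd_affineSpace (d : ℕ) (t : 𝔸(ULift.{u} (Fin d); Y))
    (ht : rtd (𝔸(ULift.{u} (Fin d); Y) ↘ Y) t = d)
    (hY : ∀ y : Y, y ⤳ (𝔸(ULift.{u} (Fin d); Y) ↘ Y) t → y = (𝔸(ULift.{u} (Fin d); Y) ↘ Y) t)
    (t' : 𝔸(ULift.{u} (Fin d); Y)) (h : t' ⤳ t) : t' = t := by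
  by_contra hne
  have h1 := hY _ (h.map (𝔸(ULift.{u} (Fin d); Y) ↘ Y).continuous)
  have h2 := rtd_lt_of_specializes (𝔸(ULift.{u} (Fin d); Y) ↘ Y) h hne h1
  rw [ht] at h2
  exact absurd (rtd_affineSpace_le d t') (not_le.mpr h2)

variable (f : X ⟶ Y) [LocallyOfFiniteType f]

/-- The local fibre dimension at a point where the morphism is equidimensional. -/
theorem fibreDimAt_eq (x : X) (e : ℕ) (U : X.Opens) (hxU : x ∈ U)
    (h : ∀ z ∈ U, (∀ z' : X, z' ⤳ z → f z' = f z → z' = z) → rtd f z = e) :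
    FlatMor.fibreDimAt f x = e := by
  apply le_antisymm
  · refine VarietyA.LocDim.fibreDimAt_le f x e fun z hz hfz => ?_
    obtain ⟨t, h1, h2, h3⟩ := exists_maximal_fiber f z
    rw [← h t ((h1.trans hz).mem_open U.2 hxU) h3]
    exact VarietyA.LocDim.rtd_le_of_specializes f h1 h2
  · obtain ⟨t, h1, h2, h3⟩ := exists_maximal_fiber f x
    obtain ⟨n, hn, hn'⟩ := VarietyA.LocDim.le_fibreDimAt f x t h1 h2
    rw [h t (h1.mem_open U.2 hxU) h3] at hn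
    have : e = n := by exact_mod_cast hn
    rw [this]
    exact hn'

/-- Equidimensional at `x` implies: locally quasi-finite morphism to affine space sending generic
points to generic points. -/
theorem exists_affineSpace_of_isEquidimAt (x : X) (hf : EGA43.IsEquidimAt f x) :
    ∃ (e : ℕ) (U : X.Opens) (g : (U : Scheme.{u}) ⟶ 𝔸(ULift.{u} (Fin e); Y)),
      x ∈ U ∧ g ≫ (𝔸(ULift.{u} (Fin e); Y) ↘ Y) = U.ι ≫ f ∧ LocallyQuasiFinite g ∧
      ∀ Z ∈ irreducibleComponents (↥U : Type u),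
        closure (g.base '' Z) ∈ irreducibleComponents (↥𝔸(ULift.{u} (Fin e); Y) : Type u) := by
  obtain ⟨e, U, hxU, h1, h2⟩ := (isEquidimAt_iff_points f x).mp hf
  obtain ⟨V, U', hV, hU', he, φ, hxU', hφ, hC⟩ :=
    FlatB.QfAffSpace.exists_chart f x e (fibreDimAt_eq f x e U hxU h2)
  obtain ⟨g₀, hg₀, -, hqf₀⟩ := Flat2D.CMCharts.exists_hom_affineSpace f hV hU' he φ hC
  have hqf₀ := hqf₀ hφ
  let W : X.Opens := U ⊓ U'
  let g : (W : Scheme.{u}) ⟶ 𝔸(ULift.{u} (Fin e); Y) := X.homOfLE (inf_le_right : U ⊓ U' ≤ U') ≫ g₀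
  have hg : g ≫ (𝔸(ULift.{u} (Fin e); Y) ↘ Y) = W.ι ≫ f := by
    simp only [g, Category.assoc, hg₀]
    rw [← Category.assoc, Scheme.homOfLE_ι]
  have hqf : LocallyQuasiFinite g := by
    dsimp only [g]
    infer_instance
  have hft : LocallyOfFiniteType g := by
    have : LocallyOfFiniteType (g ≫ (𝔸(ULift.{u} (Fin e); Y) ↘ Y)) := by
      rw [hg]; infer_instance
    exact locallyOfFiniteType_of_comp g (𝔸(ULift.{u} (Fin e); Y) ↘ Y)
  refine ⟨e, W, g, ⟨hxU, hxU'⟩, hg, hqf, fun Z hZ => ?_⟩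
  have hQ : QuasiSober ↥W := W.isOpen.isOpenEmbedding_subtypeVal.quasiSober
  obtain ⟨ζ, hζ, rfl⟩ := mem_irreducibleComponents_iff.mp hZ
  have hζ' := (maximal_subtype_iff W.2 ζ).mp hζ
  refine mem_irreducibleComponents_iff.mpr ⟨g ζ, ?_, (closure_image_closure_singleton g ζ).symm⟩
  have h3 : (𝔸(ULift.{u} (Fin e); Y) ↘ Y) (g ζ) = f ζ.1 := by
    have : (g ≫ (𝔸(ULift.{u} (Fin e); Y) ↘ Y)) ζ = (W.ι ≫ f) ζ := by rw [hg]
    exact this
  have h4 : rtd (𝔸(ULift.{u} (Fin e); Y) ↘ Y) (g ζ) = e := by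
    have h5 := rtd_comp g (𝔸(ULift.{u} (Fin e); Y) ↘ Y) ζ
    rw [rtd_eq_zero_of_locallyQuasiFinite g, add_zero, hg] at h5
    rw [← h5, ← h2 ζ.1 ζ.2.1 fun z hz _ => hζ' z hz]
    exact VarietyA.LocDim.rtd_ι_comp W f ζ
  refine fun t ht => maximal_of_rtd_affineSpace e (g ζ) h4 ?_ t ht
  rw [h3]
  exact (h1 ζ.1 ζ.2.1 hζ').1

theorem isEquidimAt_of_exists_affineSpace [IsLocallyNoetherian X] (x : X) (e : ℕ) (U : X.Opens)
    (g : (U : Scheme.{u}) ⟶ 𝔸(ULift.{u} (Fin e); Y)) (hx : x ∈ U)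
    (hg : g ≫ (𝔸(ULift.{u} (Fin e); Y) ↘ Y) = U.ι ≫ f) [LocallyQuasiFinite g]
    (h : ∀ Z ∈ irreducibleComponents (↥U : Type u),
        closure (g.base '' Z) ∈ irreducibleComponents (↥𝔸(ULift.{u} (Fin e); Y) : Type u)) :
    EGA43.IsEquidimAt f x := by
  have hft : LocallyOfFiniteType g := by
    have : LocallyOfFiniteType (g ≫ (𝔸(ULift.{u} (Fin e); Y) ↘ Y)) := by
      rw [hg]; infer_instance
    exact locallyOfFiniteType_of_comp g (𝔸(ULift.{u} (Fin e); Y) ↘ Y)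
  have hrtd : ∀ z : U, rtd f z.1 = rtd (𝔸(ULift.{u} (Fin e); Y) ↘ Y) (g z) := fun z => by
    have h5 := rtd_comp g (𝔸(ULift.{u} (Fin e); Y) ↘ Y) z
    rw [rtd_eq_zero_of_locallyQuasiFinite g, add_zero, hg] at h5
    rw [← h5]
    exact (VarietyA.LocDim.rtd_ι_comp U f z).symm
  have hpg : ∀ z : U, (𝔸(ULift.{u} (Fin e); Y) ↘ Y) (g z) = f z.1 := fun z => by
    have : (g ≫ (𝔸(ULift.{u} (Fin e); Y) ↘ Y)) z = (U.ι ≫ f) z := by rw [hg]
    exact this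
  have hQ : QuasiSober ↥U := U.isOpen.isOpenEmbedding_subtypeVal.quasiSober
  have hflat := Ega43.EquidimSch.flat_affineSpace (ULift.{u} (Fin e)) Y
  refine (isEquidimAt_iff_generic f x).mpr ⟨e, fun ζ hζ hζx => ?_⟩
  have hζU : ζ ∈ U := hζx.mem_open U.2 hx
  obtain ⟨t, ht, ht'⟩ := mem_irreducibleComponents_iff.mp
    (h (closure {(⟨ζ, hζU⟩ : U)}) (mem_irreducibleComponents_iff.mpr
      ⟨_, (maximal_subtype_iff U.2 ⟨ζ, hζU⟩).mpr hζ, rfl⟩))
  have h3 : t = g ⟨ζ, hζU⟩ := by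
    have : Inseparable t (g ⟨ζ, hζU⟩) := by
      rw [inseparable_iff_closure_eq, ht']
      exact closure_image_closure_singleton g ⟨ζ, hζU⟩
    exact this.eq
  subst h3
  refine ⟨?_, ?_, fun w hw hwx hfw => ?_⟩
  · intro y hy
    rw [← hpg ⟨ζ, hζU⟩] at hy ⊢
    obtain ⟨ξ, hξ, rfl⟩ := Flat.generalizingMap (𝔸(ULift.{u} (Fin e); Y) ↘ Y) hy
    rw [ht ξ hξ]
  · rw [hrtd ⟨ζ, hζU⟩]
    exact rtd_affineSpace_of_maximal e _ fun t' h1 _ => ht t' h1
  · rw [hrtd ⟨w, hwx.mem_open U.2 hx⟩]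
    exact rtd_affineSpace_le e _

end Groth.Agent.Ega4fib.H174.EquidimAff
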