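import Groth.Agent.Ega4fib.H174.Equidim

/-!
# Equidimensionality at a point over a locally Noetherian base: criterion by maximal points
-/

set_option autoImplicit false
universe u
open CategoryTheory AlgebraicGeometry TopologicalSpace Topology
open Groth.Agent.CycB.RelDim Groth.Agent.Flat2D.RelDimClosure

namespace Groth.Agent.Ega4fib.H174.EquidimCrit

open Equidim

variable {X Y : Scheme.{u}}

/-- The reduced closed subscheme with underlying space `closure {y}`. -/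
theorem exists_closure_subscheme (ζ : X) : ∃ (W : Scheme.{u}) (j : W ⟶ X), IsClosedImmersion j ∧
    Set.range j = closure {ζ} :=
  ⟨(Scheme.IdealSheafData.vanishingIdeal ⟨closure {ζ}, isClosed_closure⟩).subscheme,
    (Scheme.IdealSheafData.vanishingIdeal ⟨closure {ζ}, isClosed_closure⟩).subschemeι,
    inferInstance, by
      rw [Scheme.IdealSheafData.range_subschemeι]
      exact Scheme.IdealSheafData.coe_support_vanishingIdeal _⟩

theorem rtd_comp_closedImmersion {W : Scheme.{u}} (j : W ⟶ X) [IsClosedImmersion j] (f : X ⟶ Y)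
    (w : W) : rtd (j ≫ f) w = rtd f (j w) := by
  rw [rtd_comp, rtd_eq_zero_of_isPreimmersion j, add_zero]

instance quasiSober_fib (f : X ⟶ Y) (ζ : X) (y : Y) : QuasiSober (Fib f ζ y) := by
  refine IsClosedEmbedding.quasiSober (f := toFiber f ζ y) ⟨isEmbedding_toFiber f ζ y, ?_⟩
  have : Set.range (toFiber f ζ y) = (f.fiberι y) ⁻¹' closure {ζ} := by
    ext z
    rw [mem_range_toFiber, Set.mem_preimage, specializes_iff_mem_closure]
  rw [this]
  exact isClosed_closure.preimage (f.fiberι y).continuous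

theorem maximal_fib_iff (f : X ⟶ Y) {ζ : X} {y : Y} (t : Fib f ζ y) :
    (∀ t' : Fib f ζ y, t' ⤳ t → t' = t) ↔
      ∀ w' : X, ζ ⤳ w' → w' ⤳ t.1 → f w' = y → w' = t.1 := by
  constructor
  · intro h w' h1 h2 h3
    exact congrArg Subtype.val (h ⟨w', specializes_iff_mem_closure.mp h1, h3⟩
      ((subtype_specializes_iff _ _).mpr h2))
  · intro h z hz
    exact Subtype.ext (h z.1 (specializes_iff_mem_closure.mpr z.2.1)
      ((subtype_specializes_iff _ _).mp hz) z.2.2)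

theorem maximal_fib_mem (f : X ⟶ Y) {ζ w : X} (h : ζ ⤳ w)
    (hw : ∀ w' : X, ζ ⤳ w' → w' ⤳ w → f w' = f w → w' = w) :
    closure {(⟨w, specializes_iff_mem_closure.mp h, rfl⟩ : Fib f ζ (f w))} ∈
      irreducibleComponents (Fib f ζ (f w)) :=
  mem_irreducibleComponents_iff.mpr ⟨_, (maximal_fib_iff f _).mpr hw, rfl⟩

/-- Every point of `closure {ζ}` over `y` is the specialization of a maximal point of the fibre
`Fib f ζ y`. -/
theorem exists_maximal_fib (f : X ⟶ Y) {ζ x : X} (h : ζ ⤳ x) :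
    ∃ w : X, ζ ⤳ w ∧ w ⤳ x ∧ f w = f x ∧ ∀ w' : X, ζ ⤳ w' → w' ⤳ w → f w' = f w → w' = w := by
  obtain ⟨t, h1, h2⟩ := exists_maximal_specializes
    (⟨x, specializes_iff_mem_closure.mp h, rfl⟩ : Fib f ζ (f x))
  have h3 : f t.1 = f x := t.2.2
  refine ⟨t.1, specializes_iff_mem_closure.mpr t.2.1, (subtype_specializes_iff _ _).mp h2, h3,
    fun w' h4 h5 h6 => (maximal_fib_iff f t).mp h1 w' h4 h5 (h6.trans h3)⟩

variable (f : X ⟶ Y) [LocallyOfFiniteType f]

/-- Semicontinuity: `rtd f ζ ≤ rtd f w` for `w` maximal in a fibre of `closure {ζ}`. -/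
theorem rtd_le_of_maximal_fib {ζ w : X} (h : ζ ⤳ w)
    (hw : ∀ w' : X, ζ ⤳ w' → w' ⤳ w → f w' = f w → w' = w) : rtd f ζ ≤ rtd f w :=
  rtd_le_of_closure_mem f ζ w (specializes_iff_mem_closure.mp h) (maximal_fib_mem f h hw)

/-- The local dimension of the fibre of `closure {ζ}` through `x` is at most `n` if and only if
all points of that fibre specializing to `x` have `rtd ≤ n`. -/
theorem localDim_fib_le_iff {ζ x : X} (h : ζ ⤳ x) (n : ℕ) :
    FlatMor.localDim (Fib f ζ (f x)) ⟨x, specializes_iff_mem_closure.mp h, rfl⟩ ≤ n ↔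
      ∀ w : X, ζ ⤳ w → w ⤳ x → f w = f x → rtd f w ≤ n := by
  obtain ⟨W, j, hj, hr⟩ := exists_closure_subscheme ζ
  obtain ⟨x', rfl⟩ : x ∈ Set.range j := by
    rw [hr]; exact specializes_iff_mem_closure.mp h
  rw [← fibreDimAt_comp_eq_localDim j f ζ hr x' ⟨j x', specializes_iff_mem_closure.mp h, rfl⟩ rfl]
  constructor
  · intro hle w h1 h2 h3
    obtain ⟨w', rfl⟩ : w ∈ Set.range j := by
      rw [hr]; exact specializes_iff_mem_closure.mp h1
    obtain ⟨m, hm, hm'⟩ := VarietyA.LocDim.le_fibreDimAt (j ≫ f) x' w'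
      (j.isClosedEmbedding.isInducing.specializes_iff.mp h2) h3
    rw [rtd_comp_closedImmersion] at hm
    rw [hm]
    exact_mod_cast hm'.trans hle
  · intro hle
    refine VarietyA.LocDim.fibreDimAt_le (j ≫ f) x' n fun w' h2 h3 => ?_
    rw [rtd_comp_closedImmersion]
    refine hle _ ?_ (h2.map j.continuous) h3
    rw [specializes_iff_mem_closure, ← hr]
    exact ⟨w', rfl⟩

theorem le_localDim_fib {ζ x w : X} (h : ζ ⤳ x) (h1 : ζ ⤳ w) (h2 : w ⤳ x) (h3 : f w = f x) :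
    ∃ n : ℕ, rtd f w = n ∧ (n : WithBot ℕ∞) ≤
      FlatMor.localDim (Fib f ζ (f x)) ⟨x, specializes_iff_mem_closure.mp h, rfl⟩ := by
  obtain ⟨W, j, hj, hr⟩ := exists_closure_subscheme ζ
  obtain ⟨x', rfl⟩ : x ∈ Set.range j := by
    rw [hr]; exact specializes_iff_mem_closure.mp h
  rw [← fibreDimAt_comp_eq_localDim j f ζ hr x' ⟨j x', specializes_iff_mem_closure.mp h, rfl⟩ rfl]
  obtain ⟨w', rfl⟩ : w ∈ Set.range j := by
    rw [hr]; exact specializes_iff_mem_closure.mp h1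
  obtain ⟨m, hm, hm'⟩ := VarietyA.LocDim.le_fibreDimAt (j ≫ f) x' w'
    (j.isClosedEmbedding.isInducing.specializes_iff.mp h2) h3
  rw [rtd_comp_closedImmersion] at hm
  exact ⟨m, hm, hm'⟩

/-- If the generic fibre of `closure {ζ}` has dimension `e`, then the fibre through `x` has local
dimension `e` at `x` as soon as it is at most `e`. -/
theorem localDim_fib_eq_iff {ζ x : X} (h : ζ ⤳ x) (e : ℕ) (he : rtd f ζ = e) :
    FlatMor.localDim (Fib f ζ (f x)) ⟨x, specializes_iff_mem_closure.mp h, rfl⟩ = e ↔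
      ∀ w : X, ζ ⤳ w → w ⤳ x → f w = f x → rtd f w ≤ e := by
  rw [← localDim_fib_le_iff f h]
  refine ⟨fun h => h.le, fun hle => le_antisymm hle ?_⟩
  obtain ⟨w, h1, h2, h3, h4⟩ := exists_maximal_fib f h
  have h5 := rtd_le_of_maximal_fib f h1 h4
  obtain ⟨n, hn, hn'⟩ := le_localDim_fib f h h1 h2 h3
  rw [he, hn] at h5
  refine le_trans ?_ hn'
  exact_mod_cast h5

/-- The set of points of `closure {ζ}` where the local dimension of the fibre is at most `n` is
open in `closure {ζ}`. -/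
theorem exists_opens_localDim_le {ζ x : X} (h : ζ ⤳ x) (n : ℕ)
    (hx : ∀ w : X, ζ ⤳ w → w ⤳ x → f w = f x → rtd f w ≤ n) :
    ∃ O : X.Opens, x ∈ O ∧ ∀ z ∈ O, ζ ⤳ z → rtd f z ≤ n := by
  obtain ⟨W, j, hj, hr⟩ := exists_closure_subscheme ζ
  obtain ⟨x', rfl⟩ : x ∈ Set.range j := by
    rw [hr]; exact specializes_iff_mem_closure.mp h
  obtain ⟨O, hO, hO'⟩ := j.isClosedEmbedding.isInducing.isOpen_iff.mp (S0402.result (j ≫ f) n)
  have hmem : ∀ w' : W, j w' ∈ O ↔ FlatMor.fibreDimAt (j ≫ f) w' ≤ n := fun w' => by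
    have : w' ∈ j ⁻¹' O ↔ w' ∈ {x | FlatMor.fibreDimAt (j ≫ f) x ≤ n} := by rw [hO']
    exact this
  refine ⟨⟨O, hO⟩, ?_, fun z hz hζ => ?_⟩
  · refine (hmem x').mpr ?_
    rw [fibreDimAt_comp_eq_localDim j f ζ hr x' ⟨j x', specializes_iff_mem_closure.mp h, rfl⟩ rfl]
    exact (localDim_fib_le_iff f h n).mpr hx
  · obtain ⟨z', rfl⟩ : z ∈ Set.range j := by
      rw [hr]; exact specializes_iff_mem_closure.mp hζ
    obtain ⟨m, hm, hm'⟩ := VarietyA.LocDim.le_fibreDimAt (j ≫ f) z' z' specializes_rfl rfl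
    rw [rtd_comp_closedImmersion] at hm
    rw [hm]
    exact_mod_cast hm'.trans ((hmem z').mp hz)

/-- In a locally Noetherian scheme every point has an open neighbourhood which contains only
finitely many maximal points, all specializing to the point. -/
theorem exists_opens_finite_maximal [IsLocallyNoetherian X] (x : X) :
    ∃ V : X.Opens, x ∈ V ∧ {z : X | z ∈ V ∧ ∀ z' : X, z' ⤳ z → z' = z}.Finite ∧
      ∀ z ∈ V, (∀ z' : X, z' ⤳ z → z' = z) → z ⤳ x := by
  obtain ⟨V, hV, hxV, -⟩ := exists_isAffineOpen_mem_and_subset (x := x) (U := ⊤) trivial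
  have hR : IsNoetherianRing Γ(X, V) := IsLocallyNoetherian.component_noetherian ⟨V, hV⟩
  have hN : NoetherianSpace ↥V := noetherianSpace_of_isAffineOpen V hV
  have hQ : QuasiSober ↥V := V.isOpen.isOpenEmbedding_subtypeVal.quasiSober
  obtain ⟨U₀, hxU₀, hU₀⟩ := VarietyA.LocDim.exists_opens_noetherian (V := ↥V) ⟨x, hxV⟩
  let U : X.Opens := V.ι ''ᵁ U₀
  have hUV : ∀ z ∈ U, z ∈ V := by
    rintro _ ⟨z, -, rfl⟩
    exact z.2
  refine ⟨U, ⟨⟨x, hxV⟩, hxU₀, rfl⟩, ?_, ?_⟩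
  · have hfin : (irreducibleComponents ↥V).Finite := NoetherianSpace.finite_irreducibleComponents
    refine Set.Finite.of_finite_image (f := fun z => {v : ↥V | z ⤳ v.1})
      (hfin.subset ?_) ?_
    · rintro _ ⟨z, ⟨hzU, hz⟩, rfl⟩
      refine mem_irreducibleComponents_iff.mpr ⟨⟨z, hUV z hzU⟩,
        (maximal_subtype_iff V.2 ⟨z, hUV z hzU⟩).mpr hz, ?_⟩
      ext v
      exact specializes_iff_mem_closure.symm.trans (subtype_specializes_iff _ _)
    · rintro z ⟨hzU, hz⟩ z' ⟨hzU', hz'⟩ heq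
      have h1 : (⟨z', hUV z' hzU'⟩ : ↥V) ∈ {v : ↥V | z ⤳ v.1} := by
        rw [show {v : ↥V | z ⤳ v.1} = {v : ↥V | z' ⤳ v.1} from heq]
        exact specializes_rfl
      exact hz' z h1
  · rintro _ ⟨z, hz, rfl⟩ hmax
    have h1 := hU₀ z hz fun z' hz' =>
      specializes_of_eq ((maximal_subtype_iff V.2 z).mpr hmax z' hz').symm
    exact (subtype_specializes_iff _ _).mp h1

/-- **Criterion for equidimensionality at a point** over a locally Noetherian base, by maximal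
points and transcendence degrees. -/
theorem isEquidimAt_iff_generic [IsLocallyNoetherian X] (x : X) :
    EGA43.IsEquidimAt f x ↔ ∃ e : ℕ, ∀ ζ : X, (∀ z : X, z ⤳ ζ → z = ζ) → ζ ⤳ x →
      (∀ y : Y, y ⤳ f ζ → y = f ζ) ∧ rtd f ζ = e ∧
        ∀ w : X, ζ ⤳ w → w ⤳ x → f w = f x → rtd f w ≤ e := by
  rw [isEquidimAt_iff_points]
  constructor
  · rintro ⟨e, U, hxU, h1, h2⟩
    refine ⟨e, fun ζ hζ hζx => ?_⟩
    have hζU : ζ ∈ U := hζx.mem_open U.2 hxU
    refine ⟨(h1 ζ hζU hζ).1, h2 ζ hζU fun z hz _ => hζ z hz, fun w hw hwx hfw => ?_⟩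
    obtain ⟨z, h3, h4, h5⟩ := exists_maximal_fiber f w
    have hzU : z ∈ U := (h3.trans hwx).mem_open U.2 hxU
    rw [← h2 z hzU h5]
    exact VarietyA.LocDim.rtd_le_of_specializes f h3 h4
  · rintro ⟨e, he⟩
    obtain ⟨V, hxV, hfin, hV⟩ := exists_opens_finite_maximal x
    have hO : ∀ ζ : {z : X | z ∈ V ∧ ∀ z' : X, z' ⤳ z → z' = z}, ∃ O : X.Opens, x ∈ O ∧
        ∀ z ∈ O, ζ.1 ⤳ z → rtd f z ≤ e := fun ζ =>
      exists_opens_localDim_le f (hV ζ.1 ζ.2.1 ζ.2.2) e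
        (he ζ.1 ζ.2.2 (hV ζ.1 ζ.2.1 ζ.2.2)).2.2
    choose O hxO hO using hO
    have := hfin.to_subtype
    have hopen : IsOpen (⋂ ζ, (O ζ : Set X)) := isOpen_iInter_of_finite fun ζ => (O ζ).2
    refine ⟨e, V ⊓ ⟨_, hopen⟩, ⟨hxV, Set.mem_iInter.mpr hxO⟩, ?_, ?_⟩
    · intro ζ hζU hζ
      have h1 := hV ζ hζU.1 hζ
      exact ⟨(he ζ hζ h1).1, h1.map f.continuous⟩
    · intro z hzU hz
      obtain ⟨ζ, hζ, hζz⟩ := exists_maximal_specializes z
      have hζV : ζ ∈ V := hζz.mem_open V.2 hzU.1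
      have h1 := hV ζ hζV hζ
      refine le_antisymm (hO ⟨ζ, hζV, hζ⟩ z (Set.mem_iInter.mp hzU.2 _) hζz) ?_
      rw [← (he ζ hζ h1).2.1]
      exact rtd_le_of_maximal_fib f hζz fun w' _ h2 h3 => hz w' h2 h3

end Groth.Agent.Ega4fib.H174.EquidimCrit
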